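import Mathlib

set_option backward.isDefEq.respectTransparency false
set_option backward.isDefEq.respectTransparency.types false
set_option linter.style.haveILetI false
set_option autoImplicit false

universe u

open CategoryTheory Category Limits Opposite

namespace Groth.Agent.LanSlice

variable {C : Type u} [SmallCategory C] {C' : Type u} [SmallCategory C'] (u : C ⥤ C')

/-- The right Kan extension of a constant along a point. -/
def pt (d : C') (T : Type u) : C'ᵒᵖ ⥤ Type u where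
  obj c := (d ⟶ c.unop) → T
  map f := TypeCat.ofHom fun φ g => φ (g ≫ f.unop)
  map_id c := by ext φ g; simp
  map_comp f f' := by ext φ g; simp

def toPt {P : C'ᵒᵖ ⥤ Type u} (d : C') {T : Type u} (f : P.obj (op d) → T) : P ⟶ pt d T where
  app c := TypeCat.ofHom fun e g => f (P.map g.op e)
  naturality c c' k := by
    ext e
    funext g
    change f (P.map g.op (P.map k e)) = f (P.map (g ≫ k.unop).op e)
    simp


noncomputable abbrev η (H : Cᵒᵖ ⥤ Type u) (Y : C) (x : H.obj (op Y)) : (u.op.lan.obj H).obj (op (u.obj Y)) :=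
  ((Functor.lanAdjunction u.op (Type u)).unit.app H).app (op Y) x

theorem exists_rep (H : Cᵒᵖ ⥤ Type u) (d : C') (e : (u.op.lan.obj H).obj (op d)) :
    ∃ (Y : C) (x : H.obj (op Y)) (g : d ⟶ u.obj Y), (u.op.lan.obj H).map g.op (η u H Y x) = e := by
  let f₁ : (u.op.lan.obj H).obj (op d) → ULift.{u} Prop := fun e =>
    ULift.up (∃ (Y : C) (x : H.obj (op Y)) (g : d ⟶ u.obj Y), (u.op.lan.obj H).map g.op (η u H Y x) = e)
  let f₂ : (u.op.lan.obj H).obj (op d) → ULift.{u} Prop := fun _ => ULift.up True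
  have key : toPt d f₁ = toPt d f₂ := by
    apply ((Functor.lanAdjunction u.op (Type u)).homEquiv _ _).injective
    rw [Adjunction.homEquiv_unit, Adjunction.homEquiv_unit]
    ext Y x
    funext g
    exact congrArg ULift.up (eq_true ⟨Y.unop, x, g, rfl⟩)
  have h := congrArg (fun α : u.op.lan.obj H ⟶ pt d (ULift.{u} Prop) => α.app (op d) e (𝟙 d)) key
  have h' := of_eq_true (congrArg ULift.down h)
  change ∃ (Y : C) (x : H.obj (op Y)) (g : d ⟶ u.obj Y),
    (u.op.lan.obj H).map g.op (η u H Y x) = (u.op.lan.obj H).map (𝟙 d).op e at h'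
  simpa using h'

variable [u.Faithful]

open Classical in
noncomputable def θfun (H : Cᵒᵖ ⥤ Type u) (Z Y : C) (x : H.obj (op Y)) (g : u.obj Z ⟶ u.obj Y) : Option (H.obj (op Z)) :=
  if h : ∃ h : Z ⟶ Y, u.map h = g then some (H.map h.choose.op x) else none

theorem θfun_map (H : Cᵒᵖ ⥤ Type u) {Z Y : C} (x : H.obj (op Y)) (h : Z ⟶ Y) :
    θfun u H Z Y x (u.map h) = some (H.map h.op x) := by
  have hh : ∃ k : Z ⟶ Y, u.map k = u.map h := ⟨h, rfl⟩
  rw [θfun, dif_pos hh, u.map_injective hh.choose_spec]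

theorem θfun_none (H : Cᵒᵖ ⥤ Type u) {Z Y : C} (x : H.obj (op Y)) (g : u.obj Z ⟶ u.obj Y)
    (hg : ¬ ∃ h : Z ⟶ Y, u.map h = g) : θfun u H Z Y x g = none := by
  rw [θfun, dif_neg hg]

variable (hu : ∀ X : C, (Over.post (X := X) u).Full)
include hu

theorem θfun_natural (H : Cᵒᵖ ⥤ Type u) {Z Y Y' : C} (f : Y ⟶ Y') (x : H.obj (op Y'))
    (g : u.obj Z ⟶ u.obj Y) : θfun u H Z Y (H.map f.op x) g = θfun u H Z Y' x (g ≫ u.map f) := by
  by_cases hg : ∃ h : Z ⟶ Y, u.map h = g
  · obtain ⟨h, rfl⟩ := hg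
    rw [θfun_map, ← u.map_comp, θfun_map]
    simp
  · rw [θfun_none _ _ _ _ hg, θfun_none]
    rintro ⟨k, hk⟩
    haveI := hu Y'
    let A : Over Y' := Over.mk k
    let B : Over Y' := Over.mk f
    let φ : (Over.post u).obj A ⟶ (Over.post u).obj B := Over.homMk g (by change g ≫ u.map f = u.map k; exact hk.symm)
    exact hg ⟨((Over.post u).preimage φ).left, congrArg CommaMorphism.left ((Over.post u).map_preimage φ)⟩

noncomputable def θ (H : Cᵒᵖ ⥤ Type u) (Z : C) :
    H ⟶ ((Functor.whiskeringLeft Cᵒᵖ C'ᵒᵖ (Type u)).obj u.op).obj (pt (u.obj Z) (Option (H.obj (op Z)))) where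
  app Y := TypeCat.ofHom fun x g => θfun u H Z Y.unop x g
  naturality Y Y' f := by
    ext x
    funext g
    exact θfun_natural u hu H f.unop x g

noncomputable def r (H : Cᵒᵖ ⥤ Type u) (Z : C) (e : (u.op.lan.obj H).obj (op (u.obj Z))) : Option (H.obj (op Z)) :=
  (((Functor.lanAdjunction u.op (Type u)).homEquiv _ _).symm (θ u hu H Z)).app _ e (𝟙 _)

theorem r_map (H : Cᵒᵖ ⥤ Type u) (Z Y : C) (x : H.obj (op Y)) (g : u.obj Z ⟶ u.obj Y) :
    r u hu H Z ((u.op.lan.obj H).map g.op (η u H Y x)) = θfun u H Z Y x g := by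
  have h := ((Functor.lanAdjunction u.op (Type u)).homEquiv _ _).apply_symm_apply (θ u hu H Z)
  rw [Adjunction.homEquiv_unit] at h
  have h' := congrArg (fun α : H ⟶ ((Functor.whiskeringLeft Cᵒᵖ C'ᵒᵖ (Type u)).obj u.op).obj
    (pt (u.obj Z) (Option (H.obj (op Z)))) => α.app (op Y) x g) h
  refine Eq.trans ?_ h'
  unfold r
  rw [NatTrans.naturality_apply]
  change _ = (((Functor.lanAdjunction u.op (Type u)).homEquiv _ _).symm (θ u hu H Z)).app _ (η u H Y x) g
  exact congrArg _ (Category.id_comp g)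

theorem r_η (H : Cᵒᵖ ⥤ Type u) (Z : C) (x : H.obj (op Z)) : r u hu H Z (η u H Z x) = some x := by
  have h := r_map u hu H Z Z x (𝟙 _)
  rw [← u.map_id, θfun_map] at h
  simpa using h

theorem r_natural {H K : Cᵒᵖ ⥤ Type u} (α : H ⟶ K) (Z : C) (e : (u.op.lan.obj H).obj (op (u.obj Z))) :
    r u hu K Z ((u.op.lan.map α).app _ e) = (r u hu H Z e).map (α.app (op Z)) := by
  obtain ⟨Y, x, g, rfl⟩ := exists_rep u H _ e
  rw [NatTrans.naturality_apply, r_map]
  have hη : (u.op.lan.map α).app _ (η u H Y x) = η u K Y (α.app (op Y) x) :=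
    (congrArg (fun β : H ⟶ _ => β.app (op Y) x) ((Functor.lanAdjunction u.op (Type u)).unit.naturality α)).symm
  rw [hη, r_map]
  by_cases hg : ∃ h : Z ⟶ Y, u.map h = g
  · obtain ⟨h, rfl⟩ := hg
    rw [θfun_map, θfun_map, Option.map_some]
    exact congrArg some (NatTrans.naturality_apply α h.op x).symm
  · rw [θfun_none _ _ _ _ hg, θfun_none _ _ _ _ hg, Option.map_none]

theorem eq_η (H : Cᵒᵖ ⥤ Type u) (Z : C) (e : (u.op.lan.obj H).obj (op (u.obj Z))) (x : H.obj (op Z))
    (h : r u hu H Z e = some x) : η u H Z x = e := by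
  obtain ⟨Y, y, g, rfl⟩ := exists_rep u H _ e
  rw [r_map] at h
  by_cases hg : ∃ h : Z ⟶ Y, u.map h = g
  · obtain ⟨k, rfl⟩ := hg
    rw [θfun_map] at h
    rw [← Option.some.inj h]
    exact NatTrans.naturality_apply ((Functor.lanAdjunction u.op (Type u)).unit.app H) k.op y
  · rw [θfun_none _ _ _ _ hg] at h
    simp at h

theorem mono_unit (H : Cᵒᵖ ⥤ Type u) : Mono ((Functor.lanAdjunction u.op (Type u)).unit.app H) := by
  rw [NatTrans.mono_iff_mono_app]
  intro Z
  rw [mono_iff_injective]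
  intro a b hab
  exact Option.some.inj ((r_η u hu H Z.unop a).symm.trans ((congrArg (r u hu H Z.unop) hab).trans (r_η u hu H Z.unop b)))

theorem main :
    (u.op.lan : (Cᵒᵖ ⥤ Type u) ⥤ (C'ᵒᵖ ⥤ Type u)).Faithful ∧
    (∀ H : Cᵒᵖ ⥤ Type u, Mono ((Functor.lanAdjunction u.op (Type u)).unit.app H)) ∧
    ∀ (H K : Cᵒᵖ ⥤ Type u) (α : H ⟶ K),
      IsPullback ((Functor.lanAdjunction u.op (Type u)).unit.app H) α
        (((Functor.whiskeringLeft Cᵒᵖ C'ᵒᵖ (Type u)).obj u.op).map (u.op.lan.map α))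
        ((Functor.lanAdjunction u.op (Type u)).unit.app K) := by
  haveI : ∀ H, Mono ((Functor.lanAdjunction u.op (Type u)).unit.app H) := mono_unit u hu
  refine ⟨(Functor.lanAdjunction u.op (Type u)).faithful_L_of_mono_unit_app, mono_unit u hu, fun H K α => ?_⟩
  refine IsPullback.of_forall_isPullback_app fun Z => ?_
  rw [Limits.Types.isPullback_iff]
  refine ⟨?_, fun a b hab => ?_, fun e k hek => ?_⟩
  · exact congrArg (fun β : H ⟶ _ => β.app Z) ((Functor.lanAdjunction u.op (Type u)).unit.naturality α).symm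
  · exact Option.some.inj ((r_η u hu H Z.unop a).symm.trans ((congrArg (r u hu H Z.unop) hab.1).trans (r_η u hu H Z.unop b)))
  · have h := congrArg (r u hu K Z.unop) hek
    change r u hu K Z.unop ((u.op.lan.map α).app _ e) = r u hu K Z.unop (η u K Z.unop k) at h
    rw [r_natural, r_η] at h
    obtain ⟨x, hx, hxk⟩ := Option.map_eq_some_iff.1 h
    exact ⟨x, eq_η u hu H Z.unop e x hx, hxk⟩

end Groth.Agent.LanSlice
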